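import Groth.Agent.EGA43.DimFormula.ValFibre
import Groth.Agent.EGA43.DimFormula.UnivDim
import Groth.Agent.EGA43.DimFormula.Sub
import Groth.Agent.EGA43.UnivOpen.Dvr
import Groth.Agent.EGA43.DvrCrit.OpenFlat
import Groth.Agent.EGA43.ProperDvr.Rational
import Groth.Agent.ValCritLib.Refined

/-!
# Dimension of closures of images of universally open families in fibres (EGA IV 14.3, 15.6)
-/

set_option autoImplicit false
set_option backward.isDefEq.respectTransparency false
set_option linter.style.haveILetI false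

universe u

open CategoryTheory CategoryTheory.Limits AlgebraicGeometry TopologicalSpace IsLocalRing

namespace Groth.Agent.EGA43.ImageDim

open Groth.Agent Groth.Agent.EGA43.DimFormula

variable {X S : Scheme.{u}} (f : X ⟶ S) [LocallyOfFiniteType f]

/-- Transcendence degrees of points under base change. -/
theorem trdAt_bc {S' : Scheme.{u}} (g : S' ⟶ S) (x : X) :
    (∀ p : ↥(pullback f g), pullback.fst f g p = x → trdAt (pullback.snd f g) p ≤ trdAt f x) ∧
    ∀ t : S', f x = g t → ∃ p : ↥(pullback f g),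
      pullback.fst f g p = x ∧ pullback.snd f g p = t ∧ trdAt (pullback.snd f g) p = trdAt f x := by
  obtain ⟨Z, i, hi, hint, hr, hgen⟩ := exists_integral_subscheme x
  have hi' : i (genericPoint Z) = x := hgen inferInstance
  let m : pullback (i ≫ f) g ⟶ pullback f g :=
    pullback.map _ _ _ _ i (𝟙 _) (𝟙 _) (by simp) (by simp)
  have sq : IsPullback m (pullback.fst (i ≫ f) g) (pullback.fst f g) i := by
    refine (IsPullback.of_bot ?_ (pullback.lift_fst _ _ _).symm (IsPullback.of_hasPullback f g)).flip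
    rw [show m ≫ pullback.snd f g = pullback.snd (i ≫ f) g from (pullback.lift_snd _ _ _).trans (Category.comp_id _)]
    exact IsPullback.of_hasPullback _ _
  haveI : IsClosedImmersion m := MorphismProperty.of_isPullback (P := @IsClosedImmersion) sq.flip hi
  haveI : LocallyOfFiniteType (pullback.snd (i ≫ f) g) := MorphismProperty.pullback_snd _ _ inferInstance
  have hsnd : m ≫ pullback.snd f g = pullback.snd (i ≫ f) g := (pullback.lift_snd _ _ _).trans (Category.comp_id _)
  have hms : ∀ r, pullback.snd f g (m r) = pullback.snd (i ≫ f) g r := fun r =>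
    congrArg (fun φ : pullback (i ≫ f) g ⟶ S' => φ r) hsnd
  have hmf : ∀ r, pullback.fst f g (m r) = i (pullback.fst (i ≫ f) g r) := fun r =>
    congrArg (fun φ : pullback (i ≫ f) g ⟶ X => φ r) sq.w
  have htrd : ∀ r, trdAt (pullback.snd f g) (m r) = trdAt (pullback.snd (i ≫ f) g) r := fun r =>
    (trdAt_comp m (pullback.snd f g) r).symm.trans
      (congrArg (fun φ : pullback (i ≫ f) g ⟶ S' => trdAt φ r) hsnd)
  -- the points over the generic point of `Z`
  have key : ∀ r, pullback.fst (i ≫ f) g r = genericPoint Z → ∃ w, w ⤳ r ∧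
      pullback.fst (i ≫ f) g w = genericPoint Z ∧ pullback.snd (i ≫ f) g w = pullback.snd (i ≫ f) g r ∧
      trdAt (pullback.snd (i ≫ f) g) w = trdAt f x := fun r hr' => by
    obtain ⟨w, hw, hwe, hwmax⟩ := Chevalley.exists_maximal_in_fibre (pullback.snd (i ≫ f) g) r
    have h1 : pullback.fst (i ≫ f) g w = genericPoint Z :=
      (((hw.map (pullback.fst (i ≫ f) g).continuous).trans (specializes_of_eq hr')).antisymm
        (genericPoint_specializes _)).eq
    refine ⟨w, hw, h1, hwe, ?_⟩
    rw [(trdAt_pullback_of_maximal (i ≫ f) g w fun v hv he => hwmax v hv (he.trans hwe)).1, h1, trdAt_comp, hi']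
  refine ⟨fun p hp => ?_, fun t ht => ?_⟩
  · obtain ⟨r, rfl, hr'⟩ := Scheme.exists_preimage_of_isPullback sq p (genericPoint Z) (hp.trans hi'.symm)
    obtain ⟨w, hw, -, hwe, hwt⟩ := key r hr'
    rw [htrd, ← hwt]
    exact Chevalley.trdegHom_le_of_specializes _ hw hwe
  · obtain ⟨r, hr1, hr2⟩ := Scheme.Pullback.exists_preimage_pullback (f := i ≫ f) (g := g) (genericPoint Z) t
      (by rw [Scheme.Hom.comp_apply, hi', ht])
    obtain ⟨w, -, hwf, hwe, hwt⟩ := key r hr1
    exact ⟨m w, by rw [hmf, hwf, hi'], by rw [hms, hwe, hr2], by rw [htrd, hwt]⟩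

/-- In a fibre of a base change, the preimage of a closure is in the closure of the preimage. -/
theorem mem_closure_fibre_preimage {S' : Scheme.{u}} (g : S' ⟶ S) (t : S') (U : Set X)
    {p : ↥(pullback f g)} (hp : pullback.snd f g p = t)
    (hx : pullback.fst f g p ∈ closure (U ∩ f.base ⁻¹' {g t})) :
    p ∈ closure ((pullback.fst f g).base ⁻¹' (U ∩ f.base ⁻¹' {g t}) ∩ (pullback.snd f g).base ⁻¹' {t}) := by
  let f' := pullback.snd f g
  let b : Spec (S'.residueField t) ⟶ Spec (S.residueField (g t)) := Spec.map (g.residueFieldMap t)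
  have sq : IsPullback (f'.fiberι t ≫ pullback.fst f g) (f'.fiberToSpecResidueField t) f
      (S'.fromSpecResidueField t ≫ g) :=
    (IsPullback.of_hasPullback f' (S'.fromSpecResidueField t)).paste_horiz (IsPullback.of_hasPullback f g)
  have hb : b ≫ S.fromSpecResidueField (g t) = S'.fromSpecResidueField t ≫ g :=
    g.SpecMap_residueFieldMap_fromSpecResidueField t
  let l : f'.fiber t ⟶ f.fiber (g t) := pullback.lift (f'.fiberι t ≫ pullback.fst f g)
    (f'.fiberToSpecResidueField t ≫ b) (by rw [sq.w, Category.assoc, hb])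
  have hlι : l ≫ f.fiberι (g t) = f'.fiberι t ≫ pullback.fst f g := pullback.lift_fst _ _ _
  have sq' : IsPullback l (f'.fiberToSpecResidueField t) (f.fiberToSpecResidueField (g t)) b := by
    refine IsPullback.of_right ?_ (pullback.lift_snd _ _ _)
      (IsPullback.of_hasPullback f (S.fromSpecResidueField (g t)))
    rw [hb, pullback.lift_fst]
    exact sq
  haveI : IsIntegral (Spec (S.residueField (g t))) := inferInstance
  haveI : UniversallyOpen b := inferInstance
  haveI : UniversallyOpen l := MorphismProperty.of_isPullback (P := @UniversallyOpen) sq'.flip inferInstance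
  obtain ⟨a, rfl⟩ : p ∈ Set.range (f'.fiberι t) := (f'.range_fiberι t).ge hp
  have hle : ∀ a', f.fiberι (g t) (l a') = pullback.fst f g (f'.fiberι t a') := fun a' =>
    congrArg (fun φ : f'.fiber t ⟶ X => φ a') hlι
  let U₀ : Set ↥(f.fiber (g t)) := (f.fiberι (g t)).base ⁻¹' U
  have h1 : l a ∈ closure U₀ := by
    rw [(f.fiberι (g t)).isEmbedding.closure_eq_preimage_closure_image, Set.mem_preimage,
      Set.image_preimage_eq_inter_range, f.range_fiberι, hle]
    exact hx
  have h2 : a ∈ closure (l.base ⁻¹' U₀) := by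
    rw [← l.isOpenMap.preimage_closure_eq_closure_preimage l.continuous]
    exact h1
  refine map_mem_closure (f'.fiberι t).continuous h2 fun a' ha' => ⟨⟨?_, ?_⟩, (f'.range_fiberι t).le ⟨a', rfl⟩⟩
  · show pullback.fst f g (f'.fiberι t a') ∈ U
    rw [← hle]; exact ha'
  · show f (pullback.fst f g (f'.fiberι t a')) = g t
    rw [← hle]
    exact (f.range_fiberι (g t)).le ⟨l a', rfl⟩

/-- A point in the closure of a subset of a fibre specialises from a point of the closure lying in the fibre. -/
theorem exists_generization_mem_closure [QuasiCompact f] (s : S) {U : Set X} (hU : U ⊆ f.base ⁻¹' {s}) {p : X}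
    (hp : p ∈ closure U) : ∃ m, m ⤳ p ∧ f m = s ∧ m ∈ closure U := by
  haveI : LocallyOfFiniteType (f.fiberToSpecResidueField s) :=
    inferInstanceAs (LocallyOfFiniteType (pullback.snd f (S.fromSpecResidueField s)))
  haveI : QuasiCompact (f.fiberToSpecResidueField s) :=
    inferInstanceAs (QuasiCompact (pullback.snd f (S.fromSpecResidueField s)))
  haveI : IsLocallyNoetherian (f.fiber s) := LocallyOfFiniteType.isLocallyNoetherian (f.fiberToSpecResidueField s)
  haveI : CompactSpace ↥(f.fiber s) := QuasiCompact.compactSpace_of_compactSpace (f.fiberToSpecResidueField s)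
  haveI : AlgebraicGeometry.IsNoetherian (f.fiber s) := {}
  let F : Set ↥(f.fiber s) := (f.fiberι s).base ⁻¹' closure U
  have hF : IsClosed F := isClosed_closure.preimage (f.fiberι s).continuous
  obtain ⟨C, hCfin, hCcl, hCirr, hCF⟩ := NoetherianSpace.exists_finite_set_isClosed_irreducible hF
  have hUsub : U ⊆ ⋃ c ∈ C, closure ((f.fiberι s).base '' c) := fun u hu => by
    obtain ⟨a, ha⟩ := (f.range_fiberι s).ge (hU hu)
    have : a ∈ F := by
      show f.fiberι s a ∈ closure U
      rw [ha]; exact subset_closure hu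
    rw [hCF] at this
    obtain ⟨c, hc, hac⟩ := this
    exact Set.mem_biUnion hc (subset_closure ⟨a, hac, ha⟩)
  have h1 := closure_minimal hUsub (hCfin.isClosed_biUnion fun c _ => isClosed_closure) hp
  obtain ⟨c, hc, hpc⟩ := Set.mem_iUnion₂.1 h1
  have hgp := (hCirr c hc).isGenericPoint_genericPoint (hCcl c hc)
  refine ⟨f.fiberι s (hCirr c hc).genericPoint, ?_, (f.range_fiberι s).le ⟨_, rfl⟩, ?_⟩
  · exact (hgp.image (f.fiberι s).continuous).specializes hpc
  · have : (hCirr c hc).genericPoint ∈ F := hCF ▸ ⟨c, hc, hgp.mem⟩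
    exact this

/-- EGA IV 14.3.13 (form for families). -/
theorem dim_le_of_specializes [QuasiCompact f] {ι : Type u} (Y : ι → Scheme.{u}) (g : ∀ i, Y i ⟶ S)
    [∀ i, UniversallyOpen (g i)] (v : ∀ i, Y i ⟶ X) (hv : ∀ i, v i ≫ f = g i) (s s' : S) (hs : s' ⤳ s) :
    topologicalKrullDim ↥(f.base ⁻¹' {s} ∩ closure ((⋃ i, Set.range (v i).base) ∩ f.base ⁻¹' {s})) ≤
    topologicalKrullDim ↥(f.base ⁻¹' {s'} ∩ closure ((⋃ i, Set.range (v i).base) ∩ f.base ⁻¹' {s'})) := by
  obtain ⟨V, ψ, hψη, hψs⟩ := ValCritLib.exists_valuation_of_specializes (𝟙 S) s' s hs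
  let B := Spec (CommRingCat.of V)
  let c : B := closedPoint V
  let η : B := genericPoint B
  have hη : ψ η = s' := by
    obtain ⟨pt⟩ : Nonempty (Spec (S.residueField s')) := inferInstance
    have h1 : Spec.map (CommRingCat.ofHom V.subtype) pt = η := by
      show _ = genericPoint B
      rw [ProperDvr.genericPoint_spec_eq]
      refine PrimeSpectrum.ext ((congrArg (fun I : Ideal (S.residueField s') => I.comap V.subtype)
        (Ideal.eq_bot_of_prime pt.asIdeal)).trans ?_)
      exact (RingHom.injective_iff_ker_eq_bot _).1 Subtype.val_injective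
    have h2 := congrArg (fun φ : Spec (S.residueField s') ⟶ S => φ pt) hψη
    simp only [Category.comp_id] at h2
    rw [← h1]
    exact h2.trans (Scheme.fromSpecResidueField_apply s' pt)
  haveI : LocallyOfFiniteType (pullback.snd f ψ) := MorphismProperty.pullback_snd _ _ inferInstance
  haveI : QuasiCompact (pullback.snd f ψ) := MorphismProperty.pullback_snd _ _ inferInstance
  let U := ⋃ i, Set.range (v i).base
  let U' : Set ↥(pullback f ψ) := (pullback.fst f ψ).base ⁻¹' U ∩ (pullback.snd f ψ).base ⁻¹' {η}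
  -- the lifted family reaches the closed fibre
  have hlift : (pullback.fst f ψ).base ⁻¹' (U ∩ f.base ⁻¹' {ψ c}) ∩ (pullback.snd f ψ).base ⁻¹' {c} ⊆ closure U' := by
    rintro p ⟨⟨hpU, -⟩, hpc⟩
    obtain ⟨i, y, hy⟩ := Set.mem_iUnion.1 hpU
    let m : pullback (g i) ψ ⟶ pullback f ψ :=
      pullback.map _ _ _ _ (v i) (𝟙 _) (𝟙 _) (by rw [Category.comp_id, hv]) (by simp)
    have sq : IsPullback m (pullback.fst (g i) ψ) (pullback.fst f ψ) (v i) := by
      refine (IsPullback.of_bot ?_ (pullback.lift_fst _ _ _).symm (IsPullback.of_hasPullback f ψ)).flip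
      rw [show m ≫ pullback.snd f ψ = pullback.snd (g i) ψ from (pullback.lift_snd _ _ _).trans (Category.comp_id _), hv]
      exact IsPullback.of_hasPullback _ _
    obtain ⟨q, rfl, hq⟩ := Scheme.exists_preimage_of_isPullback sq p y hy.symm
    obtain ⟨q', hq', hq'η⟩ := UnivOpen.exists_generization_of_isUnivOpenAt (g i)
      (DvrCrit.isUnivOpenAt_of_universallyOpen (g i) y) ψ hq (genericPoint_specializes _)
    refine specializes_iff_closure_subset.1 (hq'.map m.continuous) |>.trans ?_ (subset_closure rfl)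
    refine closure_mono (Set.singleton_subset_iff.2 ⟨?_, ?_⟩)
    · exact Set.mem_iUnion.2 ⟨i, pullback.fst (g i) ψ q',
        (congrArg (fun φ : pullback (g i) ψ ⟶ X => φ q') sq.w).symm⟩
    · show pullback.snd f ψ (m q') = η
      refine Eq.trans ?_ hq'η
      exact congrArg (fun φ : pullback (g i) ψ ⟶ B => φ q') ((pullback.lift_snd _ _ _).trans (Category.comp_id _))
  have hT : ∀ t, IsLocallyClosed (closure (U ∩ f.base ⁻¹' {t})) := fun t => isClosed_closure.isLocallyClosed
  rw [Set.inter_comm (f.base ⁻¹' {s}), Set.inter_comm (f.base ⁻¹' {s'}),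
    Chevalley.topologicalKrullDim_inter_fibre f (hT s) s]
  refine iSup_le fun ⟨x, hx, hxs⟩ => ?_
  have hxs' : f x = s := hxs
  obtain ⟨p, hp1, hp2, hp3⟩ := (trdAt_bc f ψ x).2 c (hxs'.trans hψs.symm)
  have hpE : p ∈ closure U' := by
    refine closure_minimal hlift isClosed_closure ?_
    refine mem_closure_fibre_preimage f ψ c U hp2 ?_
    rw [hp1, show ψ c = s from hψs]
    exact hx
  obtain ⟨m, hm, hmη, hmU⟩ := exists_generization_mem_closure (pullback.snd f ψ) η Set.inter_subset_right hpE
  have h1 : trdAt f x ≤ trdAt (pullback.snd f ψ) m := hp3.symm.trans_le (trdAt_le_of_valuationRing _ hm hmη)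
  have h2 := (trdAt_bc f ψ (pullback.fst f ψ m)).1 m rfl
  have hmf : f (pullback.fst f ψ m) = s' := by
    rw [show f (pullback.fst f ψ m) = ψ (pullback.snd f ψ m) from
      congrArg (fun φ : pullback f ψ ⟶ S => φ m) pullback.condition, hmη, hη]
  have hmU' : pullback.fst f ψ m ∈ closure (U ∩ f.base ⁻¹' {s'}) := by
    refine map_mem_closure (pullback.fst f ψ).continuous hmU fun a ha => ⟨ha.1, ?_⟩
    show f (pullback.fst f ψ a) = s'
    rw [show f (pullback.fst f ψ a) = ψ (pullback.snd f ψ a) from
      congrArg (fun φ : pullback f ψ ⟶ S => φ a) pullback.condition, show pullback.snd f ψ a = η from ha.2, hη]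
  have h3 := Chevalley.le_topologicalKrullDim_inter_fibre f (hT s') hmU'
  have hset : closure (U ∩ f.base ⁻¹' {s'}) ∩ f.base ⁻¹' {f (pullback.fst f ψ m)} =
      closure (U ∩ f.base ⁻¹' {s'}) ∩ f.base ⁻¹' {s'} := congrArg (fun t => closure (U ∩ f.base ⁻¹' {s'}) ∩ f.base ⁻¹' {t}) hmf
  refine le_trans ?_ (h3.trans (IsHomeomorph.topologicalKrullDim_eq (Homeomorph.setCongr hset)
    (Homeomorph.setCongr hset).isHomeomorph).le)
  exact_mod_cast h1.trans h2

end Groth.Agent.EGA43.ImageDim
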